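import Mathlib
import Cfsg.Agent.Lib.Star.Glue

/-!
# Watanabe's theorem: `l(B) = l(b_u)` and `k(B) = k(b_u)` for `u` fixed by the inertial group
-/

namespace CfsgLib.Star

open Cfsg MonoidAlgebra CfsgLib.Char CfsgLib.Block CfsgLib.Blk
open CfsgLib.BrPair (cS Cz Nz Ce br emb res Fixed Supp cj fixSub IsBlk SubLE sB cB MaxPair IsNil stN)
open CfsgLib.SL2 (lin fourier)
open scoped ComplexConjugate CfsgLib.SL2

attribute [local implicit_reducible] CfsgLib.Block.K

variable {G : Type*} [Group G] [Fintype G] {p : ℕ} {M : Ideal AlgInt} [hp : Fact p.Prime]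

omit [Fintype G] in
/-- the norm map of a coprime action on an abelian `p`-group. -/
theorem exists_norm [Finite G] {T P : Subgroup G} (hT : T ≤ Nz P) (hab : P ≤ Cz P)
    (hP : IsPGroup p P) (hn : ¬ p ∣ (Cz P).relIndex T) :
    ∃ ν : P →* P, (∀ t ∈ T, ∀ u v : P, (v : G) = t * u * t⁻¹ → ν v = ν u) ∧
      ∀ u : P, T ≤ Cu (u : G) → ν u = 1 → u = 1 := by
  classical
  let _ : CommGroup P := { (inferInstance : Group P) with
    mul_comm := fun a b => Subtype.ext (hab b.2 a a.2) }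
  have := Fintype.ofFinite (cjP hT).range
  refine ⟨∏ σ : (cjP hT).range, (σ : MulAut P).toMonoidHom, fun t ht u v huv => ?_,
    fun u hu h1 => ?_⟩
  · have h1 : v = cjP hT ⟨t, ht⟩ u := Subtype.ext huv
    rw [h1, MonoidHom.finsetProd_apply, MonoidHom.finsetProd_apply]
    exact Fintype.prod_equiv (Equiv.mulRight ⟨_, ⟨t, ht⟩, rfl⟩) _ _ fun σ => rfl
  · rw [MonoidHom.finsetProd_apply, Finset.prod_congr rfl (g := fun _ => u) (by
      rintro ⟨_, t, rfl⟩ -
      refine Subtype.ext ((coe_cjP hT t u).trans ?_)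
      rw [← mem_Cu.1 (hu t.2), mul_inv_cancel_right]), Finset.prod_const, Finset.card_univ,
      ← Nat.card_eq_fintype_card, ← Subgroup.index_ker] at h1
    have h2 : (cjP hT).ker = (Cz P).subgroupOf T := by
      ext t
      rw [MonoidHom.mem_ker, Subgroup.mem_subgroupOf, BrPair.mem_Cz]
      refine ⟨fun h y hy => ?_, fun h => MulEquiv.ext fun y => Subtype.ext ?_⟩
      · have := coe_cjP hT t ⟨y, hy⟩
        rw [h, eq_mul_inv_iff_mul_eq] at this
        exact this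
      · rw [coe_cjP, ← h y y.2, mul_inv_cancel_right]
        rfl
    rw [h2] at h1
    obtain ⟨k, hk⟩ := hP u
    exact (pow_eq_one_iff_of_coprime
      (((hp.out.coprime_iff_not_dvd).2 hn).pow_left k)).1 ⟨hk, h1⟩

theorem sum_fiber_eq {A : Type*} [Group A] [Fintype A] [DecidableEq A] [IsMulCommutative A]
    (ν : A →* A)
    {F : A → ℂ} (h : ∀ μ : A →* ℂˣ, μ.comp ν ≠ 1 → ∑ v, lin (μ.comp ν) v * F v = 0) (z : A) :
    ∑ w with ν w = 1, F (z * w) = ∑ w with ν w = 1, F w := by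
  let g : A → ℂ := fun y => ∑ v with ν v = y, F v
  have h1 : ∀ μ : A →* ℂˣ, μ.comp ν ≠ 1 → classInner g (lin μ) = 0 := fun μ hμ => by
    have h2 := h μ⁻¹ fun e => hμ (MonoidHom.ext fun x => inv_eq_one.1 (DFunLike.congr_fun e x))
    rw [← Finset.sum_fiberwise (s := Finset.univ) (g := ν)] at h2
    rw [classInner_def, ← mul_zero (Nat.card A : ℂ)⁻¹, ← h2]
    congr 1
    refine Finset.sum_congr rfl fun y _ => ?_
    rw [Finset.sum_mul]
    refine Finset.sum_congr rfl fun v hv => ?_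
    rw [← (Finset.mem_filter.1 hv).2, ← lin_inv_eq_conj, mul_comm]
    rfl
  have h2 : g (ν z) = g 1 := by
    rw [fourier g, fourier g 1]
    refine Finset.sum_congr rfl fun μ _ => ?_
    by_cases hμ : μ.comp ν = 1
    · rw [show lin μ (ν z) = lin (μ.comp ν) z from rfl, hμ, SL2.lin_one_apply, SL2.lin_one]
    · rw [h1 μ hμ, zero_mul, zero_mul]
  refine Eq.trans ?_ h2
  refine Finset.sum_bij' (fun w _ => z * w) (fun v _ => z⁻¹ * v) (fun w hw => ?_) (fun v hv => ?_)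
    (fun _ _ => by simp) (fun _ _ => by simp) fun _ _ => rfl
  · simp [(Finset.mem_filter.1 hw).2]
  · simp [(Finset.mem_filter.1 hv).2]

variable {hM : IsPModular p M} {B : Set (IrrCharacter G)} {P Q : Subgroup G} {e : (K hM)[G]}

theorem cl_of_fus {b : (K hM)[G]} (h : MaxPair p ⊤ ⊤ b P e) {u v : G}
    (huv : Fus p P e u v) : cl p P e v = cl p P e u :=
  Nat.card_congr (Equiv.subtypeEquivRight fun _ =>
    ⟨fun h1 => h1.trans h (huv.symm h), fun h1 => h1.trans h huv⟩)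

variable (h : MaxPair p ⊤ ⊤ (eB hM B) P e) (hab : P ≤ Cz P)
include h hab

open Classical in
theorem sum_lin_rank [Fintype P] (hB : IsPBlock M B) (l : P →* ℂˣ)
    (hl : ∀ t ∈ stN ⊤ P e, ∀ u v : P, (v : G) = t * u * t⁻¹ → l v = l u) :
    ∑ v : P, lin l v * ((blockRank p (bu hM P e v) : ℂ) / (Cu (v : G)).relIndex (stN ⊤ P e)) =
      if l = 1 then (Nat.card B : ℂ) else 0 := by
  have : ∀ u : G, Fintype (Cu u) := fun u => Fintype.ofFinite _
  obtain ⟨R, hR, -⟩ := exists_isFReps h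
  have hη : Stable p P e (extendByZero P (lin l)) := stable_ez fun u v huv => by
    obtain ⟨-, t, ht, htu⟩ := (ab_fus_iff h hab).1 huv
    exact congrArg Units.val (hl t ht u v htu.symm)
  have h1 := sum_eq_sum_reps hR (f := fun g => extendByZero P (lin l) g *
    ((blockRank p (bu hM P e g) : ℂ) / cl p P e g)) fun u v huv => by
      rw [hη u v huv, rank_bu_of_fus h hB huv, cl_of_fus h huv]
  have h2 : ∑ v : P, lin l v * ((blockRank p (bu hM P e v) : ℂ) /
      (Cu (v : G)).relIndex (stN ⊤ P e)) =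
      ∑ u ∈ R, extendByZero P (lin l) u * blockRank p (bu hM P e u) := by
    refine Eq.trans (Finset.sum_congr rfl fun v _ => ?_) (h1.trans (Finset.sum_congr rfl
      fun u hu => ?_))
    · rw [Char.extendByZero_coe, ab_cl h hab v.2]
    · have : (cl p P e u : ℂ) ≠ 0 := Nat.cast_ne_zero.2 (cl_pos h (hR.1 u hu)).ne'
      rw [nsmul_eq_mul]
      field_simp
  rw [h2]
  split_ifs with h3
  · rw [card_eq_sum_reps h hB hR, h3]
    push_cast
    refine Finset.sum_congr rfl fun u hu => ?_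
    rw [extendByZero_of_mem P _ (hR.1 u hu), SL2.lin_one_apply, one_mul]
  · have h4 : ∀ χ ∈ bf B, ∑ u ∈ R, extendByZero P (lin l) u * mu p u (bu hM P e u) χ χ = 0 := by
      intro χ hχ
      rw [← inner_ast h hB hR (irr_isClassFunction χ) hη (irr_isClassFunction χ)]
      obtain ⟨ψ, -, hψ⟩ := exists_irr_ast_linear h hB (mem_bf.1 hχ) l hη
      change _ = ast hM P e χ (extendByZero P (lin l)) at hψ
      rw [← hψ]
      refine classInner_irr_of_ne ψ.2 χ.2 fun h5 => h3 (MonoidHom.ext fun u => Units.ext ?_)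
      have h6 := sp_ast h (irr_isClassFunction χ) hη u.2
      rw [← hψ, h5, Char.extendByZero_coe] at h6
      exact (smul_left_injective ℂ (sp_ne_zero_of_major hM (pElt_of_mem h u.2) (induced_bu h hB u.2)
        (defect_bu_of_central h hB u.2 (ab_le_Cu h hab u.2)) (mem_bf.1 hχ))
        ((one_smul ℂ _).trans h6)).symm
    rw [← Finset.sum_eq_zero h4, Finset.sum_comm]
    refine Finset.sum_congr rfl fun u hu => ?_
    rw [← Finset.mul_sum, sum_mu_self hM (pElt_of_mem h (hR.1 u hu)) (induced_bu h hB (hR.1 u hu))]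

theorem emb_fL (hQ : Q ≤ P) {u : Cz Q} (hu : (u : G) ∈ P) :
    (Cu u).map (Cz Q).subtype = Cz (Q ⊔ Subgroup.zpowers (u : G)) ∧
    IsBlk (Cu u) (fL (P.subgroupOf (Cz Q)) (res (Cz Q).subtype e) (Cu u)) ∧
    emb (Cz Q).subtype (fL (P.subgroupOf (Cz Q)) (res (Cz Q).subtype e) (Cu u)) =
      fL P e (Cz (Q ⊔ Subgroup.zpowers (u : G))) := by
  have h1 := maxPair_sub (maxPair_fL h hab hQ)
  have hι := (Cz Q).subtype_injective
  have hP : P ≤ Cz Q := le_Cz_of_ab hab hQ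
  have hab' : P.subgroupOf (Cz Q) ≤ Cz (P.subgroupOf (Cz Q)) := fun x hx y hy =>
    Subtype.ext (hab hx y hy)
  have h2 := fL_spec h1 hab' (Q := Subgroup.zpowers u) (Subgroup.zpowers_le.2 hu)
  rw [Cz_zpowers] at h2
  have h3 : (Cu u).map (Cz Q).subtype = Cz (Q ⊔ Subgroup.zpowers (u : G)) := by
    rw [Cu, ← Cz_zpowers, BrPair.map_Cz hι, Subgroup.range_subtype, BrPair.Cz_sup,
      MonoidHom.map_zpowers]
    rfl
  have h4 : emb (Cz Q).subtype (res (Cz Q).subtype e) = e := BrPair.Supp.emb_res hι (by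
    rw [Subgroup.range_subtype]
    exact h.blk.mem.1.mono (inf_le_right.trans (BrPair.Cz_anti hQ)))
  refine ⟨h3, h2.1, (fL_eq h hab (sup_le hQ (Subgroup.zpowers_le.2 hu)) ?_ ?_).symm⟩
  · rw [← h3]
    exact (BrPair.isPrim_emb_iff hι).2 h2.1
  · have := congrArg (emb (Cz Q).subtype) h2.2
    rwa [map_mul, ← BrPair.br_emb hι, h4, Subgroup.map_subgroupOf_eq_of_le hP] at this

theorem stN_sub (hQ : Q ≤ P) :
    stN ⊤ (P.subgroupOf (Cz Q)) (res (Cz Q).subtype e) = (stN (Cz Q) P e).subgroupOf (Cz Q) := by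
  have hι := (Cz Q).subtype_injective
  have hP : P ≤ Cz Q := le_Cz_of_ab hab hQ
  have h4 : emb (Cz Q).subtype (res (Cz Q).subtype e) = e := BrPair.Supp.emb_res hι (by
    rw [Subgroup.range_subtype]
    exact h.blk.mem.1.mono (inf_le_right.trans (BrPair.Cz_anti hQ)))
  ext t
  simp only [Subgroup.mem_subgroupOf, Subgroup.mem_inf, Subgroup.mem_top, true_and, t.2]
  rw [← BrPair.map_mem_Nz_iff hι, ← BrPair.mem_stab_emb_iff hι, h4,
    Subgroup.map_subgroupOf_eq_of_le hP]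
  rfl

open Classical in
theorem sum_lin_rk [Fintype P] (hQ : Q ≤ P) (l : P →* ℂˣ)
    (hl : ∀ t ∈ stN (Cz Q) P e, ∀ u v : P, (v : G) = t * u * t⁻¹ → l v = l u) :
    ∑ v : P, lin l v * ((rk hM (Cz (Q ⊔ Subgroup.zpowers (v : G)))
      (fL P e (Cz (Q ⊔ Subgroup.zpowers (v : G)))) : ℂ) / (Cu (v : G)).relIndex (stN (Cz Q) P e)) =
      if l = 1 then (kk hM (Cz Q) (fL P e (Cz Q)) : ℂ) else 0 := by
  have h1 := maxPair_sub (maxPair_fL h hab hQ)
  have hι := (Cz Q).subtype_injective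
  have hP : P ≤ Cz Q := le_Cz_of_ab hab hQ
  have hab' : P.subgroupOf (Cz Q) ≤ Cz (P.subgroupOf (Cz Q)) := fun x hx y hy =>
    Subtype.ext (hab hx y hy)
  let φ := Subgroup.subgroupOfEquivOfLe hP
  have h2 := sum_lin_rank h1 hab' (isPBlock_blk (isBlk_fL h hab hQ)) (l.comp φ.toMonoidHom)
    fun t ht u v huv => hl t (by rw [stN_sub h hab hQ] at ht; exact ht) _ _
      (congrArg Subtype.val huv)
  have h3 : l.comp φ.toMonoidHom = 1 ↔ l = 1 :=
    ⟨fun h3 => MonoidHom.ext fun x => by simpa using DFunLike.congr_fun h3 (φ.symm x),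
      fun h3 => by rw [h3]; rfl⟩
  simp only [h3] at h2
  refine Eq.trans (Fintype.sum_equiv φ.toEquiv _ _ fun v => ?_).symm h2
  obtain ⟨h4, h5, h6⟩ := emb_fL h hab hQ (u := v) v.2
  change _ = lin l (φ v) * ((rk hM (Cz (Q ⊔ Subgroup.zpowers ((v : Cz Q) : G)))
    (fL P e (Cz (Q ⊔ Subgroup.zpowers ((v : Cz Q) : G)))) : ℂ) /
      (Cu ((v : Cz Q) : G)).relIndex (stN (Cz Q) P e))
  rw [← h6, ← h4, rk_emb hι h5, fL_Cu h1 hab' v.2, rk_sB (isPBlock_bu h1 v.2), stN_sub h hab hQ,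
    ← Subgroup.relIndex_subgroupOf (show stN (Cz Q) P e ≤ Cz Q from inf_le_left.trans inf_le_left),
    show (Cu ((v : Cz Q) : G)).subgroupOf (Cz Q) = Cu (v : Cz Q) from Subgroup.ext fun x => by
      simp only [mem_Cu, Subgroup.mem_subgroupOf, Subtype.ext_iff, Subgroup.coe_mul]]
  rfl

/-- **Watanabe**, the number of simple modules. -/
theorem rk_sup_zpowers (hQ : Q ≤ P) {z : G} (hz : z ∈ P) (hT : stN (Cz Q) P e ≤ Cu z) :
    rk hM (Cz (Q ⊔ Subgroup.zpowers z)) (fL P e (Cz (Q ⊔ Subgroup.zpowers z))) =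
      rk hM (Cz Q) (fL P e (Cz Q)) := by
  classical
  induction Q using WellFoundedGT.induction with
  | ind Q ih =>
  have := Fintype.ofFinite P
  have h1 := maxPair_fL h hab hQ
  have : IsMulCommutative P := ⟨⟨fun a b => Subtype.ext (hab b.2 a a.2)⟩⟩
  obtain ⟨ν, hν, hν'⟩ := exists_norm (T := stN (Cz Q) P e) (inf_le_left.trans inf_le_right) hab
    h.pgroup (ab_not_dvd_relIndex h1 hab)
  have h2 := sum_fiber_eq ν (fun μ hμ => (sum_lin_rk h hab hQ (μ.comp ν) fun t ht u v huv => by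
    rw [MonoidHom.comp_apply, MonoidHom.comp_apply, hν t ht u v huv]).trans (if_neg hμ)) ⟨z, hz⟩
  have h3 : ∀ w : G, (Cu (z * w)).relIndex (stN (Cz Q) P e) = (Cu w).relIndex (stN (Cz Q) P e) := by
    intro w
    rw [← Subgroup.inf_relIndex_right, ← Subgroup.inf_relIndex_right (Cu w)]
    congr 1
    ext t
    simp only [Subgroup.mem_inf (p := Cu _), mem_Cu]
    refine and_congr_left fun ht => ?_
    rw [mul_assoc, ← mul_assoc t, ← mem_Cu.1 (hT ht), mul_assoc, mul_right_inj]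
  have h4 : ∀ w ∈ P, ¬ stN (Cz Q) P e ≤ Cu w →
      rk hM (Cz (Q ⊔ Subgroup.zpowers w ⊔ Subgroup.zpowers z))
        (fL P e (Cz (Q ⊔ Subgroup.zpowers w ⊔ Subgroup.zpowers z))) =
      rk hM (Cz (Q ⊔ Subgroup.zpowers w)) (fL P e (Cz (Q ⊔ Subgroup.zpowers w))) := by
    intro w hw hw'
    refine ih _ (left_lt_sup.2 fun h5 => hw' fun t ht => mem_Cu.2
      (BrPair.mem_Cz.1 ht.1.1 w (h5 (Subgroup.mem_zpowers w))))
      (sup_le hQ (Subgroup.zpowers_le.2 hw)) fun t ht =>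
      hT ⟨⟨BrPair.Cz_anti le_sup_left ht.1.1, ht.1.2⟩, ht.2⟩
  have h5 : (1 : P) ∈ Finset.univ.filter fun w => ν w = 1 := by simp
  rw [← Finset.add_sum_erase _ _ h5, ← Finset.add_sum_erase _ _ h5, Finset.sum_congr rfl
    fun w hw => ?_, add_left_inj] at h2
  · simp only [OneMemClass.coe_one, mul_one, Subgroup.zpowers_one_eq_bot, sup_bot_eq] at h2
    have h6 := h3 1
    rw [mul_one] at h6
    rw [h6, div_left_inj' (Nat.cast_ne_zero.2 Subgroup.index_ne_zero_of_finite)] at h2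
    exact_mod_cast h2
  · obtain ⟨hw1, hw⟩ := Finset.mem_erase.1 hw
    have h6 : ¬ stN (Cz Q) P e ≤ Cu (w : G) := fun h6 =>
      hw1 (hν' w h6 (Finset.mem_filter.1 hw).2)
    have h7 : ¬ stN (Cz Q) P e ≤ Cu (z * w) := fun h7 => h6 (by
      rw [← Subgroup.relIndex_eq_one, ← h3, Subgroup.relIndex_eq_one]; exact h7)
    have h8 : Q ⊔ Subgroup.zpowers (z * w) ⊔ Subgroup.zpowers z =
        Q ⊔ Subgroup.zpowers (w : G) ⊔ Subgroup.zpowers z := by
      rw [sup_right_comm, sup_right_comm Q (Subgroup.zpowers (w : G)),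
        sup_zpowers_mul (Subgroup.mem_sup_right (Subgroup.mem_zpowers z))]
    simp only [Subgroup.coe_mul, h3]
    rw [← h4 _ (P.mul_mem hz w.2) h7, h8, h4 _ w.2 h6]

/-- **Watanabe**, the number of characters. -/
theorem kk_sup_zpowers (hQ : Q ≤ P) {z : G} (hz : z ∈ P) (hT : stN (Cz Q) P e ≤ Cu z) :
    kk hM (Cz (Q ⊔ Subgroup.zpowers z)) (fL P e (Cz (Q ⊔ Subgroup.zpowers z))) =
      kk hM (Cz Q) (fL P e (Cz Q)) := by
  classical
  have := Fintype.ofFinite P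
  have h1 := sum_lin_rk h hab hQ 1 fun _ _ _ _ _ => rfl
  have h2 := sum_lin_rk h hab (sup_le hQ (Subgroup.zpowers_le.2 hz)) 1 fun _ _ _ _ _ => rfl
  have h3 : stN (Cz (Q ⊔ Subgroup.zpowers z)) P e = stN (Cz Q) P e := by
    rw [BrPair.Cz_sup, Cz_zpowers]
    exact le_antisymm (fun t ht => ⟨⟨ht.1.1.1, ht.1.2⟩, ht.2⟩)
      fun t ht => ⟨⟨⟨ht.1.1, hT ht⟩, ht.1.2⟩, ht.2⟩
  rw [if_pos rfl] at h1 h2
  rw [h3, Finset.sum_congr rfl fun v _ => by
    rw [sup_right_comm, rk_sup_zpowers h hab (sup_le hQ (Subgroup.zpowers_le.2 v.2)) hz fun t ht =>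
      hT ⟨⟨BrPair.Cz_anti le_sup_left ht.1.1, ht.1.2⟩, ht.2⟩], h1] at h2
  exact_mod_cast h2.symm

end CfsgLib.Star
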